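import Cfsg.Agent.Lib.Core.Subnormal

/-!
Flavell's extension of the zipper lemma: a subgroup lying in two maximal subgroups and subnormal in
all but at most one of its maximal overgroups lies in a proper normal subgroup.
-/

set_option autoImplicit false

namespace Cfsg.Lib.Flav

open Subgroup Cfsg.Lib.Core Cfsg.Lib.Transfer

/-- A finite connected vertex-transitive graph has no cut vertex. -/
theorem no_cut {Ω : Type*} [Finite Ω] (R : Ω → Ω → Prop) (hs : ∀ a b, R a b → R b a)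
    (htr : ∀ u v : Ω, ∃ e : Ω ≃ Ω, e u = v ∧ ∀ a b, R (e a) (e b) ↔ R a b)
    (hc : ∀ S : Set Ω, S.Nonempty → (∀ v ∈ S, ∀ w, R v w → w ∈ S) → ∀ w, w ∈ S)
    (u : Ω) (S : Set Ω) (hS : S.Nonempty) (hu : u ∉ S)
    (hcl : ∀ v ∈ S, ∀ w, R v w → w ∈ S ∨ w = u) : ∀ w, w ∈ S ∨ w = u := by
  induction hn : S.ncard using Nat.strong_induction_on generalizing u S with
  | _ n ih =>
  by_contra hne
  push Not at hne
  obtain ⟨w0, hw0, hw0u⟩ := hne
  obtain ⟨v, hv⟩ := hS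
  -- a closed pair `(v, T)` with `u ∉ T` is smaller
  have key : ∀ T : Set Ω, v ∉ T → u ∉ T → (∀ a ∈ T, ∀ w, R a w → w ∈ T ∨ w = v) →
      T.ncard < S.ncard := by
    intro T hvT huT hT
    have hsub : T ⊆ S := by
      by_contra hns
      obtain ⟨a, ha, haS⟩ := Set.not_subset.mp hns
      have := hc (T \ S) ⟨a, ha, haS⟩ (fun b hb w hw => ?_) v
      · exact this.2 hv
      · have hwS : w ∉ S := fun hwS => by
          rcases hcl w hwS b (hs _ _ hw) with h | h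
          · exact hb.2 h
          · exact huT (h ▸ hb.1)
        rcases hT b hb.1 w hw with h | h
        · exact ⟨h, hwS⟩
        · exact absurd (h ▸ hv) hwS
    exact Set.ncard_lt_ncard ⟨hsub, fun h => hvT (h hv)⟩ (Set.toFinite _)
  obtain ⟨e, he, heR⟩ := htr u v
  have hv' : v ∉ e '' S := fun ⟨a, ha, hae⟩ => hu (e.injective (hae.trans he.symm) ▸ ha)
  have hcl' : ∀ a ∈ e '' S, ∀ w, R a w → w ∈ e '' S ∨ w = v := by
    rintro _ ⟨a, ha, rfl⟩ w hw
    obtain ⟨w, rfl⟩ := e.surjective w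
    rcases hcl a ha w ((heR _ _).mp hw) with h | h
    · exact Or.inl ⟨w, h, rfl⟩
    · exact Or.inr (h ▸ he)
  by_cases hu' : u ∈ e '' S
  · have hT : ∀ a ∈ (e '' S ∪ {v})ᶜ, ∀ w, R a w → w ∈ (e '' S ∪ {v})ᶜ ∨ w = v := by
      intro a ha w hw
      by_cases hwv : w = v
      · exact Or.inr hwv
      refine Or.inl fun h => ?_
      rcases h with h | h
      · rcases hcl' w h a (hs _ _ hw) with h' | h'
        · exact ha (Or.inl h')
        · exact ha (Or.inr h')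
      · exact hwv h
    have hlt := key (e '' S ∪ {v})ᶜ (fun h => h (Or.inr rfl)) (fun h => h (Or.inl hu')) hT
    have hne : ((e '' S ∪ {v})ᶜ).Nonempty := ⟨e w0, fun h => by
      rcases h with ⟨a, ha, hae⟩ | h
      · exact hw0 (e.injective hae ▸ ha)
      · exact hw0u (e.injective (h.trans he.symm))⟩
    rcases ih _ (hn ▸ hlt) v _ hne (fun h => h (Or.inr rfl)) hT rfl u with h | h
    · exact h (Or.inl hu')
    · exact hu (h ▸ hv)
  · have := key _ hv' hu' hcl'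
    rw [Set.ncard_image_of_injective _ e.injective] at this
    exact lt_irrefl _ this

variable {G : Type*} [Group G]

/-- `T` lies in two maximal subgroups. -/
def Split (T : Subgroup G) : Prop :=
  ∃ K L : Subgroup G, IsCoatom K ∧ IsCoatom L ∧ K ≠ L ∧ T ≤ K ∧ T ≤ L

/-- `T` is subnormal in all its maximal overgroups other than `M`. -/
def Good (T M : Subgroup G) : Prop :=
  ∀ K : Subgroup G, IsCoatom K → T ≤ K → K ≠ M → SubnormalIn T K

/-- `T` lies in no proper normal subgroup. -/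
def Full (T : Subgroup G) : Prop := ∀ N : Subgroup G, N.Normal → T ≤ N → N = ⊤

theorem coatom_conj {K : Subgroup G} (h : IsCoatom K) (g : G) : IsCoatom (g ⋆ K) := by
  refine ⟨fun e => h.1 ?_, fun L hL => ?_⟩
  · rw [← inv_conj_conj g K, e, conj_top]
  · have : K < g⁻¹ ⋆ L := by
      rw [← conj_lt_conj_iff (g := g), conj_inv_conj]
      exact hL
    rw [← conj_inv_conj g L, h.2 _ this, conj_top]

theorem Split.conj {T : Subgroup G} (h : Split T) (g : G) : Split (g ⋆ T) := by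
  obtain ⟨K, L, h1, h2, h3, h4, h5⟩ := h
  exact ⟨g ⋆ K, g ⋆ L, coatom_conj h1 g, coatom_conj h2 g, fun e => h3 (conj_inj.mp e),
    conj_mono g h4, conj_mono g h5⟩

theorem Split.mono {T U : Subgroup G} (h : Split T) (hU : U ≤ T) : Split U := by
  obtain ⟨K, L, h1, h2, h3, h4, h5⟩ := h
  exact ⟨K, L, h1, h2, h3, hU.trans h4, hU.trans h5⟩

theorem Split.exists_ne {T : Subgroup G} (h : Split T) (M : Subgroup G) :
    ∃ K, IsCoatom K ∧ T ≤ K ∧ K ≠ M := by
  obtain ⟨K, L, h1, h2, h3, h4, h5⟩ := h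
  by_cases e : K = M
  · exact ⟨L, h2, h5, fun e' => h3 (e.trans e'.symm)⟩
  · exact ⟨K, h1, h4, e⟩

theorem Good.conj {T M : Subgroup G} (h : Good T M) (g : G) : Good (g ⋆ T) (g ⋆ M) := by
  intro K hK hT hne
  have := h (g⁻¹ ⋆ K) (coatom_conj hK _) (conj_le_iff_le_inv_conj.mp hT)
    (fun e => hne (by rw [← e, conj_inv_conj]))
  simpa only [conj_inv_conj] using this.map (MulAut.conj g).toMonoidHom

theorem Full.conj {T : Subgroup G} (h : Full T) (g : G) : Full (g ⋆ T) := by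
  intro N hN hT
  refine h N hN ?_
  have := conj_le_iff_le_inv_conj.mp hT
  rwa [conj_eq_self_of_normal] at this

theorem Full.mono {T U : Subgroup G} (h : Full T) (hU : T ≤ U) : Full U :=
  fun N hN hT => h N hN (hU.trans hT)

theorem Full.normalizer_ne {T D : Subgroup G} (h : Full T) (hD : T ≤ D) (hs : Split D) :
    normalizer (D : Set G) ≠ ⊤ := by
  intro e
  obtain ⟨K, -, h1, -, -, h4, -⟩ := hs
  have := h D (normal_of_top_le_normalizer e.ge) hD
  exact h1.1 (top_le_iff.mp (this ▸ h4))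

theorem Full.normalizer_le {T K : Subgroup G} (h : Full T) (hK : IsCoatom K) (hT : T ≤ K) :
    normalizer (K : Set G) ≤ K := by
  by_contra hn
  have := hK.2 _ (lt_of_le_of_ne le_normalizer fun e => hn e.ge)
  exact hK.1 (h K (normal_of_top_le_normalizer this.ge) hT)

/-- A counterexample of maximal order. -/
structure Ctx (A M : Subgroup G) : Prop where
  good : Good A M
  split : Split A
  full : Full A
  max : ∀ T K : Subgroup G, Good T K → Split T → Full T → Nat.card T ≤ Nat.card A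

namespace Ctx

variable [Finite G] {A M : Subgroup G}

omit [Finite G] in
theorem conj (c : Ctx A M) (g : G) : Ctx (g ⋆ A) (g ⋆ M) :=
  ⟨c.good.conj g, c.split.conj g, c.full.conj g, fun T K h1 h2 h3 =>
    (card_conj g A).symm ▸ c.max T K h1 h2 h3⟩

theorem not_lt (c : Ctx A M) {T K : Subgroup G} (h : A < T) (h1 : Good T K) (h2 : Split T) :
    False :=
  (card_lt_of_lt h).not_ge (c.max T K h1 h2 (c.full.mono h.le))

theorem exists_bad (c : Ctx A M) : ∃ K, IsCoatom K ∧ A ≤ K ∧ ¬ SubnormalIn A K := by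
  by_contra h
  push Not at h
  obtain ⟨K1, hK1, hN⟩ := exists_coatom_ge (c.full.normalizer_ne le_rfl c.split)
  obtain ⟨K2, hK2, hA2, hne⟩ := c.split.exists_ne K1
  have hn : ¬ K2 ≤ normalizer (A : Set G) := fun e => hne ((hK2.le_iff_eq hK1.1).mp (e.trans hN)).symm
  obtain ⟨x, hx, hx1, hx2⟩ := (h K2 hK2 hA2).exists_conj_le_normalizer hn
  refine c.not_lt (T := A ⊔ x ⋆ A) (K := K1) (lt_of_le_of_ne le_sup_left fun e =>
    hx1 (mem_normalizer_of_conj_le (le_sup_right.trans e.ge))) (fun L hL hT _ => ?_)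
    ⟨K1, K2, hK1, hK2, hne.symm, (sup_le le_normalizer hx2).trans hN,
      sup_le hA2 ((conj_mono x hA2).trans (conj_eq_self_of_mem hx).le)⟩
  refine (h L hL (le_sup_left.trans hT)).sup ?_
  have := h (x⁻¹ ⋆ L) (coatom_conj hL _) (conj_le_iff_le_inv_conj.mp (le_sup_right.trans hT))
  simpa only [conj_inv_conj] using this.map (MulAut.conj x).toMonoidHom

theorem bad (c : Ctx A M) : IsCoatom M ∧ A ≤ M ∧ ¬ SubnormalIn A M := by
  obtain ⟨K, h1, h2, h3⟩ := c.exists_bad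
  obtain rfl : K = M := by
    by_contra e
    exact h3 (c.good K h1 h2 e)
  exact ⟨h1, h2, h3⟩

theorem coatom (c : Ctx A M) : IsCoatom M := c.bad.1

theorem le (c : Ctx A M) : A ≤ M := c.bad.2.1

theorem uniq {M' : Subgroup G} (c : Ctx A M) (c' : Ctx A M') : M = M' := by
  by_contra e
  exact c.bad.2.2 (c'.good M c.coatom c.le e)

theorem normalizer_le (c : Ctx A M) : normalizer (A : Set G) ≤ M := by
  intro g hg
  have := c.conj g
  rw [conj_eq_self_iff.mpr hg] at this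
  exact c.full.normalizer_le c.coatom c.le (conj_eq_self_iff.mp (this.uniq c))

theorem pair {B L : Subgroup G} (c : Ctx A M) (d : Ctx B L) (hne : A ≠ B) (hs : Split (A ⊔ B)) :
    A ≤ L ∧ B ≤ M ∧ M ≠ L := by
  have hlt : A < A ⊔ B := lt_of_le_of_ne le_sup_left fun e => hne
    (eq_of_le_of_card_ge (le_sup_right.trans e.ge) (d.max A M c.good c.split c.full)).symm
  have key : ∀ K0, (∀ K, IsCoatom K → A ⊔ B ≤ K → K ≠ K0 → K ≠ M ∧ K ≠ L) → False :=
    fun K0 h => c.not_lt (K := K0) hlt (fun K hK hT e =>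
      (c.good K hK (le_sup_left.trans hT) (h K hK hT e).1).sup
        (d.good K hK (le_sup_right.trans hT) (h K hK hT e).2)) hs
  refine ⟨?_, ?_, ?_⟩
  · by_contra h
    exact key M fun K _ hT e => ⟨e, fun e' => h (e' ▸ le_sup_left.trans hT)⟩
  · by_contra h
    exact key L fun K _ hT e => ⟨fun e' => h (e' ▸ le_sup_right.trans hT), e⟩
  · intro h
    exact key M fun K _ hT e => ⟨e, h ▸ e⟩

theorem eq_of_same {B : Subgroup G} (c : Ctx A M) (d : Ctx B M) (hs : Split (A ⊔ B)) : A = B := by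
  by_contra e
  exact (c.pair d e hs).2.2 rfl

theorem inf_le (c : Ctx A M) {J : Subgroup G} (hJ : IsCoatom J) (hA : A ≤ J) (hne : J ≠ M) :
    J ⊓ M ≤ normalizer (A : Set G) := by
  intro g hg
  have d := c.conj g
  rw [conj_eq_self_of_mem hg.2] at d
  refine conj_eq_self_iff.mp (d.eq_of_same c ⟨J, M, hJ, c.coatom, hne, sup_le ?_ hA, sup_le d.le c.le⟩)
  exact (conj_mono g hA).trans (conj_eq_self_of_mem hg.1).le

/-- A conjugate of `A` inside another maximal overgroup normalising `A`. -/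
theorem exists_next (c : Ctx A M) {J : Subgroup G} (hJ : IsCoatom J) (hA : A ≤ J) (hne : J ≠ M) :
    ∃ x ∈ J, x ⋆ A ≠ A ∧ x ⋆ A ≤ J ∧ x ⋆ A ≤ M := by
  have hn : ¬ J ≤ normalizer (A : Set G) :=
    fun e => hne ((hJ.le_iff_eq c.coatom.1).mp (e.trans c.normalizer_le)).symm
  obtain ⟨x, hx, hx1, hx2⟩ := (c.good J hJ hA hne).exists_conj_le_normalizer hn
  exact ⟨x, hx, fun e => hx1 (conj_eq_self_iff.mp e),
    (conj_mono x hA).trans (conj_eq_self_of_mem hx).le, hx2.trans c.normalizer_le⟩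

end Ctx

/-- The conjugates of the pair `(A, M)`. -/
def Fl (A M X K : Subgroup G) : Prop := ∃ g : G, X = g ⋆ A ∧ K = g ⋆ M

theorem Fl.conj {A M X K : Subgroup G} (h : Fl A M X K) (g : G) : Fl A M (g ⋆ X) (g ⋆ K) := by
  obtain ⟨x, rfl, rfl⟩ := h
  exact ⟨g * x, conj_conj _ _ _, conj_conj _ _ _⟩

theorem Fl.ctx [Finite G] {A M X K : Subgroup G} (c : Ctx A M) (h : Fl A M X K) : Ctx X K := by
  obtain ⟨x, rfl, rfl⟩ := h
  exact c.conj x

/-- The conjugates of `A` that are subnormal in `K`. -/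
def W (A M K : Subgroup G) : Set (Subgroup G) := {Y | ∃ L, Fl A M Y L ∧ Y ≤ K ∧ L ≠ K}

namespace Ctx

variable [Finite G] {A M : Subgroup G}

theorem exists_three (c : Ctx A M) : ∃ X1 K1 X2 K2 X3 K3 : Subgroup G, Fl A M X1 K1 ∧
    Fl A M X2 K2 ∧ Fl A M X3 K3 ∧ X1 ≠ X2 ∧ X1 ≠ X3 ∧ X2 ≠ X3 ∧ Split (X1 ⊔ X2 ⊔ X3) := by
  have f1 : Fl A M A M := ⟨1, (conj_one A).symm, (conj_one M).symm⟩
  obtain ⟨L, hL, hAL, hne⟩ := c.split.exists_ne M
  obtain ⟨x, -, hx1, hx2, hx3⟩ := c.exists_next hL hAL hne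
  have f2 := f1.conj x
  have d := f2.ctx c
  obtain ⟨h1, -, h3⟩ := c.pair d hx1.symm ⟨L, M, hL, c.coatom, hne, sup_le hAL hx2, sup_le c.le hx3⟩
  obtain ⟨y, hy, hy1, hy2, hy3⟩ := d.exists_next c.coatom hx3 h3
  have f3 := f2.conj y
  refine ⟨_, _, _, _, _, _, f1, f2, f3, hx1.symm, fun e => ?_, hy1.symm,
    M, x ⋆ M, c.coatom, d.coatom, h3, sup_le (sup_le c.le hx3) hy2, sup_le (sup_le h1 d.le) hy3⟩
  have h4 := f3.ctx c
  rw [← e] at h4
  have h5 := h4.uniq c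
  rw [conj_eq_iff_eq_inv_conj, conj_eq_self_of_mem (inv_mem hy)] at h5
  exact h3 h5.symm

/-- Two of the conjugate maximal subgroups contain each other's subnormal conjugates of `A`. -/
theorem exists_edge (c : Ctx A M) : ∃ X1 K1 X2 K2 : Subgroup G, Fl A M X1 K1 ∧ Fl A M X2 K2 ∧
    K1 ≠ K2 ∧ X2 ≤ K1 ∧ (∀ Y ∈ W A M K1, Y ≤ K2) ∧ ∀ Y ∈ W A M K2, Y ≤ K1 := by
  obtain ⟨X1, K1, X2, K2, X3, K3, f1, f2, f3, h12, h13, h23, hs⟩ := c.exists_three
  obtain ⟨D, hD0, hD⟩ := Finite.exists_le_maximal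
    (p := fun D : Subgroup G => Split D ∧ D ≤ sSup {Y | (∃ L, Fl A M Y L) ∧ Y ≤ D})
    (a := X1 ⊔ X2 ⊔ X3) ⟨hs, sup_le (sup_le
      (le_sSup ⟨⟨_, f1⟩, le_sup_left.trans le_sup_left⟩)
      (le_sSup ⟨⟨_, f2⟩, le_sup_right.trans le_sup_left⟩)) (le_sSup ⟨⟨_, f3⟩, le_sup_right⟩)⟩
  obtain ⟨hDs, hDg⟩ := hD.prop
  have hmax : ∀ Y L, Fl A M Y L → Split (D ⊔ Y) → Y ≤ D := fun Y L f h =>
    le_sup_right.trans (hD.le_of_ge (y := D ⊔ Y) ⟨h, sup_le (hDg.trans (sSup_le_sSup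
      fun Z hZ => ⟨hZ.1, hZ.2.trans le_sup_left⟩)) (le_sSup ⟨⟨_, f⟩, le_sup_right⟩)⟩ le_sup_left)
  have hpair : ∀ X K Y L, Fl A M X K → Fl A M Y L → X ≤ D → Y ≤ D → X ≠ Y →
      X ≤ L ∧ Y ≤ K ∧ K ≠ L := fun X K Y L f g hX hY e =>
    (f.ctx c).pair (g.ctx c) e (hDs.mono (sup_le hX hY))
  have hDK : ∀ X K, Fl A M X K → X ≤ D → D ≤ K := fun X K f hX =>
    hDg.trans (sSup_le fun Y ⟨⟨L, g⟩, hY⟩ => by
      by_cases e : X = Y
      · exact e ▸ (f.ctx c).le
      · exact (hpair X K Y L f g hX hY e).2.1)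
  -- an exceptional member determines the maximal overgroup of `N(D)`
  have hX1 : X1 ≤ D := (le_sup_left.trans le_sup_left).trans hD0
  have hX2 : X2 ≤ D := (le_sup_right.trans le_sup_left).trans hD0
  have hX3 : X3 ≤ D := le_sup_right.trans hD0
  obtain ⟨J, hJ, hNJ⟩ := exists_coatom_ge ((f1.ctx c).full.normalizer_ne hX1 hDs)
  have hexc : ∀ X K X' K', Fl A M X K → X ≤ D → Fl A M X' K' → X' ≤ D → X ≠ X' →
      (∀ Y ∈ W A M K, Y ≤ D) ∨ K = J := by
    intro X K X' K' f hX f' hX' hne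
    by_contra hcon
    push Not at hcon
    obtain ⟨⟨Y0, hY0, hY0D⟩, hKJ⟩ := hcon
    have cX := f.ctx c
    have hsn : ∀ U ∈ W A M K, SubnormalIn U K := fun U ⟨L, g, h1, h2⟩ =>
      (g.ctx c).good K cX.coatom h1 h2.symm
    have hcj : ∀ U ∈ W A M K, ∀ g ∈ K, g ⋆ U ∈ W A M K := fun U ⟨L, g, h1, h2⟩ x hx =>
      ⟨x ⋆ L, g.conj x, (conj_mono x h1).trans (conj_eq_self_of_mem hx).le, fun e => h2 (by
        rw [conj_eq_iff_eq_inv_conj, conj_eq_self_of_mem (inv_mem hx)] at e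
        exact e)⟩
    obtain ⟨Z, hZ, hZ0, hZn⟩ := exists_notMem_le_normalizer_sSup hsn hcj
      (S₀ := {Y | Y ∈ W A M K ∧ Y ≤ D}) ⟨fun Y h => h.1, fun h => hY0D (h hY0).2⟩
    have hZK : Z ≤ K := (hsn Z hZ).le
    have hE : sSup {Y | Y ∈ W A M K ∧ Y ≤ D} ≤ D := sSup_le fun Y h => h.2
    have hX'W : X' ∈ W A M K :=
      ⟨K', f', (hpair X K X' K' f f' hX hX' hne).2.1, (hpair X K X' K' f f' hX hX' hne).2.2.symm⟩
    have hZX : Z ≤ normalizer (X : Set G) := by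
      intro z hz
      have h0 : X' ≤ sSup {Y | Y ∈ W A M K ∧ Y ≤ D} := le_sSup ⟨hX'W, hX'⟩
      have h1 : z⁻¹ ⋆ X' ≤ D := ((conj_mono _ h0).trans
        (conj_eq_self_iff.mpr (inv_mem (hZn hz))).le).trans hE
      have h2 : z⁻¹ ⋆ K' ≠ K := fun e => (hpair X K X' K' f f' hX hX' hne).2.2 (by
        rw [conj_eq_iff_eq_inv_conj, inv_inv, conj_eq_self_of_mem (hZK hz)] at e
        exact e.symm)
      have h3 : X ≠ z⁻¹ ⋆ X' := fun e => h2 (((e ▸ f'.conj z⁻¹ : Fl A M X _).ctx c).uniq cX)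
      have h4 := (hpair X K _ _ f (f'.conj z⁻¹) hX h1 h3).1
      have d := cX.conj z
      rw [conj_eq_self_of_mem (hZK hz)] at d
      refine conj_eq_self_iff.mp (d.eq_of_same cX ⟨K, K', cX.coatom, (f'.ctx c).coatom,
        (hpair X K X' K' f f' hX hX' hne).2.2, sup_le d.le cX.le, sup_le ?_ ?_⟩)
      · exact conj_le_iff_le_inv_conj.mpr h4
      · exact (hpair X K X' K' f f' hX hX' hne).1
    have hDeq : D = X ⊔ sSup {Y | Y ∈ W A M K ∧ Y ≤ D} := by
      refine le_antisymm (hDg.trans (sSup_le fun Y ⟨⟨L, g⟩, hY⟩ => ?_)) (sup_le hX hE)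
      by_cases e : X = Y
      · exact e ▸ le_sup_left
      · refine le_trans (le_sSup ?_) le_sup_right
        exact ⟨⟨L, g, (hpair X K Y L f g hX hY e).2.1,
          (hpair X K Y L f g hX hY e).2.2.symm⟩, hY⟩
    have hZD : Z ≤ normalizer (D : Set G) := by
      rw [hDeq]
      exact le_normalizer_sup hZX hZn
    obtain ⟨L, g, -, -⟩ := id hZ
    exact hZ0 ⟨hZ, hmax Z L g ⟨K, J, cX.coatom, hJ, hKJ, sup_le (hDK X K f hX) hZK,
      (sup_le le_normalizer hZD).trans hNJ⟩⟩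
  have fin : ∀ X K Y L, Fl A M X K → Fl A M Y L → X ≤ D → Y ≤ D → X ≠ Y → K ≠ J → L ≠ J →
      ∃ X1 K1 X2 K2 : Subgroup G, Fl A M X1 K1 ∧ Fl A M X2 K2 ∧
        K1 ≠ K2 ∧ X2 ≤ K1 ∧ (∀ Y ∈ W A M K1, Y ≤ K2) ∧ ∀ Y ∈ W A M K2, Y ≤ K1 :=
    fun X K Y L f g hX hY e hK hL => ⟨X, K, Y, L, f, g, (hpair X K Y L f g hX hY e).2.2,
      (hpair X K Y L f g hX hY e).2.1,
      fun U hU => (((hexc X K Y L f hX g hY e).resolve_right hK) U hU).trans (hDK Y L g hY),
      fun U hU => (((hexc Y L X K g hY f hX (Ne.symm e)).resolve_right hL) U hU).trans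
        (hDK X K f hX)⟩
  have k12 := (hpair _ _ _ _ f1 f2 hX1 hX2 h12).2.2
  have k13 := (hpair _ _ _ _ f1 f3 hX1 hX3 h13).2.2
  have k23 := (hpair _ _ _ _ f2 f3 hX2 hX3 h23).2.2
  by_cases e1 : K1 = J
  · exact fin _ _ _ _ f2 f3 hX2 hX3 h23 (fun e => k12 (e1.trans e.symm))
      (fun e => k13 (e1.trans e.symm))
  by_cases e2 : K2 = J
  · exact fin _ _ _ _ f1 f3 hX1 hX3 h13 e1 (fun e => k23 (e2.trans e.symm))
  · exact fin _ _ _ _ f1 f2 hX1 hX2 h12 e1 e2

theorem false (c : Ctx A M) : False := by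
  obtain ⟨X1, K1, X2, K2, f1, f2, hne, hX, h12, h21⟩ := c.exists_edge
  have c1 := f1.ctx c
  have c2 := f2.ctx c
  obtain ⟨t, ht⟩ : ∃ t : G, K2 = t ⋆ K1 := by
    obtain ⟨a, -, rfl⟩ := f1
    obtain ⟨b, -, rfl⟩ := f2
    exact ⟨b * a⁻¹, by rw [conj_conj, inv_mul_cancel_right]⟩
  let R : Subgroup G → Subgroup G → Prop := fun v w =>
    ∃ g : G, (v = g ⋆ K1 ∧ w = g ⋆ K2) ∨ (v = g ⋆ K2 ∧ w = g ⋆ K1)
  have hRs : ∀ a b, R a b → R b a := fun a b ⟨g, h⟩ =>
    ⟨g, h.symm.imp And.symm And.symm⟩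
  have hRc : ∀ (x : G) a b, R a b → R (x ⋆ a) (x ⋆ b) := by
    rintro x a b ⟨g, h⟩
    refine ⟨x * g, h.imp ?_ ?_⟩ <;> rintro ⟨rfl, rfl⟩ <;> exact ⟨conj_conj _ _ _, conj_conj _ _ _⟩
  have hP : ∀ v w, R v w → X2 ≤ v → v ≠ K2 → X2 ≤ w := by
    rintro v w ⟨g, ⟨rfl, rfl⟩ | ⟨rfl, rfl⟩⟩ h1 h2
    · exact le_conj_iff_inv_conj_le.mpr (h12 _ ⟨_, f2.conj g⁻¹, le_conj_iff_inv_conj_le.mp h1,
        fun e => h2 (by rw [← e, conj_inv_conj])⟩)
    · exact le_conj_iff_inv_conj_le.mpr (h21 _ ⟨_, f2.conj g⁻¹, le_conj_iff_inv_conj_le.mp h1,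
        fun e => h2 (by rw [← conj_inj (g := g⁻¹), inv_conj_conj]; exact e.symm)⟩)
  let Ω := {K : Subgroup G // ∃ g : G, K = g ⋆ K1}
  let cj : G → Ω ≃ Ω := fun x =>
    { toFun := fun K => ⟨x ⋆ K.1, by
        obtain ⟨g, hg⟩ := K.2
        exact ⟨x * g, by rw [hg, conj_conj]⟩⟩
      invFun := fun K => ⟨x⁻¹ ⋆ K.1, by
        obtain ⟨g, hg⟩ := K.2
        exact ⟨x⁻¹ * g, by rw [hg, conj_conj]⟩⟩
      left_inv := fun K => Subtype.ext (inv_conj_conj x K.1)
      right_inv := fun K => Subtype.ext (conj_inv_conj x K.1) }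
  have hcR : ∀ x (a b : Ω), R (cj x a).1 (cj x b).1 ↔ R a.1 b.1 := fun x a b =>
    ⟨fun h => by
      have := hRc x⁻¹ _ _ h
      rwa [show x⁻¹ ⋆ (cj x a).1 = a.1 from inv_conj_conj x a.1,
        show x⁻¹ ⋆ (cj x b).1 = b.1 from inv_conj_conj x b.1] at this, hRc x _ _⟩
  let o : Ω := ⟨K1, 1, (conj_one K1).symm⟩
  have ho : ∀ v : Ω, ∃ g, v = cj g o := fun ⟨v, g, hg⟩ => ⟨g, Subtype.ext hg⟩
  have hmul : ∀ x y (v : Ω), cj x (cj y v) = cj (x * y) v :=
    fun x y v => Subtype.ext (conj_conj x y v.1)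
  let T : Ω → Ω → Prop := Relation.ReflTransGen fun a b => R a.1 b.1
  have hTc : ∀ x a b, T a b → T (cj x a) (cj x b) := fun x a b h => by
    induction h with
    | refl => exact Relation.ReflTransGen.refl
    | tail _ h ih => exact Relation.ReflTransGen.tail ih ((hcR x _ _).mpr h)
  have hTs : ∀ a b, T a b → T b a := fun a b h => by
    induction h with
    | refl => exact Relation.ReflTransGen.refl
    | tail _ h ih => exact Relation.ReflTransGen.head (hRs _ _ h) ih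
  let H : Subgroup G :=
    { carrier := {g | T o (cj g o)}
      one_mem' := by
        show T o (cj 1 o)
        rw [show cj 1 o = o from Subtype.ext (conj_one K1)]
      mul_mem' := fun {a b} ha hb => by
        have := hTc a _ _ hb
        rw [hmul] at this
        exact Relation.ReflTransGen.trans ha this
      inv_mem' := fun {a} ha => by
        have := hTc a⁻¹ _ _ ha
        rw [hmul, inv_mul_cancel, show cj 1 o = o from Subtype.ext (conj_one K1)] at this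
        exact hTs _ _ this }
  have hH : H = ⊤ := by
    refine c1.coatom.2 H (lt_of_le_of_ne (fun g hg => ?_) fun e => ?_)
    · show T o (cj g o)
      rw [show cj g o = o from Subtype.ext (conj_eq_self_of_mem hg)]
    · have : t ∈ H := Relation.ReflTransGen.single
        ⟨1, Or.inl ⟨(conj_one K1).symm, ht.symm.trans (conj_one K2).symm⟩⟩
      rw [← e] at this
      exact hne (by rw [ht, conj_eq_self_of_mem this])
  have hreach : ∀ v : Ω, T o v := fun v => by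
    obtain ⟨g, rfl⟩ := ho v
    exact (hH ▸ mem_top g : g ∈ H)
  have hall := no_cut (Ω := Ω) (fun a b => R a.1 b.1) (fun a b => hRs _ _)
    (fun u v => by
      obtain ⟨a, rfl⟩ := ho u
      obtain ⟨b, rfl⟩ := ho v
      exact ⟨cj (b * a⁻¹), by rw [hmul, inv_mul_cancel_right], hcR _⟩)
    (fun S ⟨v, hv⟩ hS w => by
      have h : T v w := (hTs _ _ (hreach v)).trans (hreach w)
      induction h with
      | refl => exact hv
      | tail _ h ih => exact hS _ ih _ h)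
    ⟨K2, t, ht⟩ {v | X2 ≤ v.1 ∧ v.1 ≠ K2} ⟨o, hX, hne⟩ (fun h => h.2 rfl)
    (fun v hv w hw => by
      by_cases e : w.1 = K2
      · exact Or.inr (Subtype.ext e)
      · exact Or.inl ⟨hP _ _ hw hv.1 hv.2, e⟩)
  have hcore : X2 ≤ K1.normalCore := by
    intro x hx g
    have : X2 ≤ g⁻¹ ⋆ K1 := by
      rcases hall (cj g⁻¹ o) with h | h
      · exact h.1
      · exact c2.le.trans (congrArg Subtype.val h).ge
    simpa using mem_conj.mp (this hx)
  exact c1.coatom.1 (top_le_iff.mp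
    ((c2.full _ inferInstance hcore).ge.trans (normalCore_le K1)))

end Ctx

/-- Flavell's theorem. -/
theorem not_full [Finite G] {A M : Subgroup G} (hg : Good A M) (hs : Split A) : ¬ Full A := by
  intro hf
  obtain ⟨B, ⟨N, hB1, hB2, hB3⟩, hB⟩ := Set.exists_max_image
    {T : Subgroup G | ∃ K, Good T K ∧ Split T ∧ Full T} (fun T => Nat.card T) (Set.toFinite _)
    ⟨A, M, hg, hs, hf⟩
  exact Ctx.false ⟨hB1, hB2, hB3, fun T K h1 h2 h3 => hB T ⟨K, h1, h2, h3⟩⟩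

theorem full_iff {A : Subgroup G} : Full A ↔ normalClosure (A : Set G) = ⊤ :=
  ⟨fun h => h _ inferInstance le_normalClosure, fun h _ _ hA =>
    top_le_iff.mp (h ▸ normalClosure_le_normal hA)⟩

end Cfsg.Lib.Flav
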